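import Mathlib.Algebra.BigOperators.Finprod
import Mathlib.LinearAlgebra.Dimension.Constructions
import Mathlib.LinearAlgebra.FiniteDimensional.Basic
import Mathlib.Data.Set.Card
import Mathlib.Tactic

set_option autoImplicit false
universe u v

namespace K836.Incidence

open Finset Classical

variable {P : Type u} {ι : Type v} [Fintype ι] (inc : P → ι → Prop) (h : ℕ)

/-- the multiplicity of a point -/
noncomputable def mult (p : P) : ℕ := (univ.filter (inc p)).card

lemma natCard_of_iff (q : P → Prop) (s : Finset P) (hq : ∀ p, q p ↔ p ∈ s) :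
    Nat.card {p // q p} = s.card := by
  rw [Nat.card_congr (Equiv.subtypeEquivRight hq), Nat.card_eq_fintype_card, Fintype.card_coe]

lemma natCard_eq (p : P) : Nat.card {j : ι // inc p j} = mult inc p := by
  rw [Nat.card_eq_fintype_card, Fintype.card_subtype, mult]

lemma two_le_mult_iff (p : P) : 2 ≤ mult inc p ↔ ∃ i j : ι, i ≠ j ∧ inc p i ∧ inc p j := by
  rw [mult, Nat.succ_le_iff, Finset.one_lt_card]
  constructor
  · rintro ⟨a, ha, b, hb, hab⟩
    simp only [mem_filter, mem_univ, true_and] at ha hb
    exact ⟨a, b, hab, ha, hb⟩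
  · rintro ⟨a, b, hab, ha, hb⟩
    exact ⟨a, by simpa using ha, b, by simpa using hb, hab⟩

lemma multiple_finite
    (hfin : ∀ i j : ι, i ≠ j → {p : P | inc p i ∧ inc p j}.Finite) :
    {p : P | 2 ≤ mult inc p}.Finite := by
  have : {p : P | 2 ≤ mult inc p} ⊆
      ⋃ x : {x : ι × ι // x.1 ≠ x.2}, {p : P | inc p x.1.1 ∧ inc p x.1.2} := by
    intro p hp
    obtain ⟨i, j, hij, h1, h2⟩ := (two_le_mult_iff inc p).mp hp
    exact Set.mem_iUnion.mpr ⟨⟨(i, j), hij⟩, h1, h2⟩
  exact (Set.finite_iUnion fun x => hfin _ _ x.2).subset this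

variable (hfin : ∀ i j : ι, i ≠ j → {p : P | inc p i ∧ inc p j}.Finite)

/-- the finset of multiple points -/
noncomputable def M : Finset P := (multiple_finite inc hfin).toFinset

lemma mem_M (p : P) : p ∈ M inc hfin ↔ 2 ≤ mult inc p := by simp [M]

include hfin in
lemma card_filter_inter (i j : ι) (hij : i ≠ j)
    (hcount : ∀ i j : ι, i ≠ j → {p : P | inc p i ∧ inc p j}.ncard = h) :
    ((M inc hfin).filter fun p => inc p i ∧ inc p j).card = h := by
  rw [← hcount i j hij, ← Set.ncard_coe_finset]
  congr 1
  ext p
  simp only [coe_filter, mem_M, Set.mem_ofPred_eq, and_iff_right_iff_imp]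
  rintro ⟨h1, h2⟩
  exact (two_le_mult_iff inc p).mpr ⟨i, j, hij, h1, h2⟩

lemma mult_sub_one (p : P) (i : ι) (hi : inc p i) :
    mult inc p - 1 = ∑ j ∈ univ.erase i, if inc p i ∧ inc p j then 1 else 0 := by
  have : univ.filter (inc p) = insert i ((univ.erase i).filter (inc p)) := by
    ext j
    simp only [mem_filter, mem_univ, true_and, mem_insert, mem_erase, ne_eq, and_true]
    constructor
    · intro hj
      by_cases hji : j = i
      · exact Or.inl hji
      · exact Or.inr ⟨hji, hj⟩
    · rintro (rfl | h)
      · exact hi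
      · exact h.2
  rw [mult, this, card_insert_of_notMem (by simp), Nat.add_sub_cancel, Finset.card_filter]
  simp [hi]

lemma sum_curve (i : ι)
    (hcount : ∀ i j : ι, i ≠ j → {p : P | inc p i ∧ inc p j}.ncard = h) :
    ∑ p ∈ M inc hfin, (if inc p i then mult inc p - 1 else 0) = h * (Fintype.card ι - 1) := by
  have e : ∀ p ∈ M inc hfin, (if inc p i then mult inc p - 1 else 0) =
      ∑ j ∈ univ.erase i, if inc p i ∧ inc p j then 1 else 0 := by
    intro p _
    by_cases hi : inc p i
    · rw [if_pos hi, mult_sub_one inc p i hi]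
    · simp [hi]
  rw [Finset.sum_congr rfl e, Finset.sum_comm]
  have e2 : ∀ j ∈ univ.erase i,
      (∑ p ∈ M inc hfin, if inc p i ∧ inc p j then 1 else 0) = h := by
    intro j hj
    rw [← Finset.card_filter]
    exact card_filter_inter inc h hfin i j (by simpa [eq_comm] using hj) hcount
  rw [Finset.sum_congr rfl e2, Finset.sum_const, card_erase_of_mem (mem_univ i), card_univ,
    smul_eq_mul, mul_comm]

include hfin in
lemma finsum_curve (i : ι)
    (hcount : ∀ i j : ι, i ≠ j → {p : P | inc p i ∧ inc p j}.ncard = h) :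
    ∑ᶠ p ∈ {p : P | inc p i}, (Nat.card {j : ι // inc p j} - 1) = h * (Fintype.card ι - 1) := by
  rw [← sum_curve inc h hfin i hcount, finsum_mem_def]
  rw [finsum_eq_sum_of_support_subset (s := M inc hfin)]
  · refine Finset.sum_congr rfl fun p _ => ?_
    rw [Set.indicator_apply, natCard_eq]
    rfl
  · intro p hp
    rw [Function.mem_support, Set.indicator_apply, natCard_eq] at hp
    simp only [Set.mem_ofPred_eq, ne_eq, ite_eq_right_iff, Classical.not_imp] at hp
    rw [Finset.mem_coe, mem_M]
    omega

include hfin in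
lemma sum_pairs
    (hcount : ∀ i j : ι, i ≠ j → {p : P | inc p i ∧ inc p j}.ncard = h) :
    ∑ k ∈ Finset.Icc 2 (Fintype.card ι), k * (k - 1) * Nat.card {p : P // Nat.card {j : ι // inc p j} = k} =
      h * (Fintype.card ι * (Fintype.card ι - 1)) := by
  have e1 : ∀ k ∈ Finset.Icc 2 (Fintype.card ι),
      k * (k - 1) * Nat.card {p : P // Nat.card {j : ι // inc p j} = k} =
      ∑ p ∈ (M inc hfin).filter (fun p => mult inc p = k), mult inc p * (mult inc p - 1) := by
    intro k hk
    have hk2 : 2 ≤ k := (Finset.mem_Icc.mp hk).1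
    have e : Nat.card {p : P // Nat.card {j : ι // inc p j} = k} =
        ((M inc hfin).filter (fun p => mult inc p = k)).card := by
      refine natCard_of_iff _ _ fun p => ?_
      rw [natCard_eq]
      simp only [mem_filter, mem_M]
      constructor
      · rintro rfl
        exact ⟨hk2, rfl⟩
      · rintro ⟨_, h⟩
        exact h
    rw [e, Finset.sum_congr rfl (g := fun _ => k * (k - 1)), Finset.sum_const, smul_eq_mul, mul_comm]
    intro p hp
    rw [(Finset.mem_filter.mp hp).2]
  rw [Finset.sum_congr rfl e1, Finset.sum_fiberwise_of_maps_to]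
  · have e2 : ∀ p ∈ M inc hfin, mult inc p * (mult inc p - 1) =
        ∑ i : ι, if inc p i then mult inc p - 1 else 0 := by
      intro p _
      rw [← Finset.sum_filter, Finset.sum_const, smul_eq_mul]
      rfl
    rw [Finset.sum_congr rfl e2, Finset.sum_comm, Finset.sum_congr rfl
      (fun i _ => sum_curve inc h hfin i hcount), Finset.sum_const, card_univ, smul_eq_mul]
    ring
  · intro p hp
    rw [Finset.mem_Icc]
    refine ⟨(mem_M inc hfin p).mp hp, ?_⟩
    rw [mult, ← Finset.card_univ]
    exact Finset.card_le_card (Finset.filter_subset _ _)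

lemma lt_card_curve (hh : 0 < h) (hd : 2 ≤ Fintype.card ι)
    (hcount : ∀ i j : ι, i ≠ j → {p : P | inc p i ∧ inc p j}.ncard = h)
    (hnone : ∀ p : P, ∃ i : ι, ¬ inc p i) (i : ι) :
    h < ((M inc hfin).filter fun p => inc p i).card := by
  have hsub : ∀ j, ((M inc hfin).filter fun p => inc p i ∧ inc p j) ⊆
      ((M inc hfin).filter fun p => inc p i) := by
    intro j p hp
    simp only [mem_filter] at hp ⊢
    exact ⟨hp.1, hp.2.1⟩
  obtain ⟨j, hj⟩ : ∃ j, j ≠ i := by
    have : Nontrivial ι := Fintype.one_lt_card_iff_nontrivial.mp hd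
    exact exists_ne i
  by_contra hlt
  have hle : ((M inc hfin).filter fun p => inc p i).card ≤ h := not_lt.mp hlt
  have heq : ∀ j, j ≠ i → ((M inc hfin).filter fun p => inc p i ∧ inc p j) =
      ((M inc hfin).filter fun p => inc p i) := by
    intro j hj
    refine Finset.eq_of_subset_of_card_le (hsub j) ?_
    rw [card_filter_inter inc h hfin i j hj.symm hcount]
    exact hle
  have hne : ((M inc hfin).filter fun p => inc p i ∧ inc p j).Nonempty := by
    rw [← Finset.card_pos, card_filter_inter inc h hfin i j hj.symm hcount]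
    exact hh
  obtain ⟨p, hp⟩ := hne
  rw [heq j hj] at hp
  obtain ⟨k, hk⟩ := hnone p
  by_cases hki : k = i
  · subst hki
    exact hk (Finset.mem_filter.mp hp).2
  · rw [← heq k hki] at hp
    exact hk (Finset.mem_filter.mp hp).2.2

include hfin in
lemma natCard_multiple : Nat.card {p : P // 2 ≤ Nat.card {j : ι // inc p j}} = (M inc hfin).card := by
  refine natCard_of_iff _ _ fun p => ?_
  rw [natCard_eq, mem_M]

include hfin in
lemma add_two_le (hh : 0 < h) (hd : 2 ≤ Fintype.card ι)
    (hcount : ∀ i j : ι, i ≠ j → {p : P | inc p i ∧ inc p j}.ncard = h)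
    (hnone : ∀ p : P, ∃ i : ι, ¬ inc p i) :
    h + 2 ≤ Nat.card {p : P // 2 ≤ Nat.card {j : ι // inc p j}} := by
  rw [natCard_multiple inc hfin]
  have : Nontrivial ι := Fintype.one_lt_card_iff_nontrivial.mp hd
  obtain ⟨i, j, hij⟩ := exists_pair_ne ι
  have h1 := lt_card_curve inc h hfin hh hd hcount hnone i
  have h2 := lt_card_curve inc h hfin hh hd hcount hnone j
  have h3 := Finset.card_union_add_card_inter ((M inc hfin).filter fun p => inc p i)
    ((M inc hfin).filter fun p => inc p j)
  have h4 : ((M inc hfin).filter fun p => inc p i) ∩ ((M inc hfin).filter fun p => inc p j) =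
      ((M inc hfin).filter fun p => inc p i ∧ inc p j) := by
    ext p
    simp only [mem_inter, mem_filter]
    tauto
  rw [h4, card_filter_inter inc h hfin i j hij hcount] at h3
  have h5 : ((M inc hfin).filter fun p => inc p i) ∪ ((M inc hfin).filter fun p => inc p j) ⊆
      M inc hfin := by
    intro p hp
    simp only [mem_union, mem_filter] at hp
    rcases hp with hp | hp
    · exact hp.1
    · exact hp.1
  have h6 := Finset.card_le_card h5
  omega

include hfin in
lemma fisher (hh : 0 < h) (hd : 2 ≤ Fintype.card ι)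
    (hcount : ∀ i j : ι, i ≠ j → {p : P | inc p i ∧ inc p j}.ncard = h)
    (hnone : ∀ p : P, ∃ i : ι, ¬ inc p i) :
    Fintype.card ι ≤ Nat.card {p : P // 2 ≤ Nat.card {j : ι // inc p j}} := by
  rw [natCard_multiple inc hfin]
  let v : ι → (M inc hfin → ℚ) := fun i p => if inc p.1 i then 1 else 0
  have hli : LinearIndependent ℚ v := by
    rw [Fintype.linearIndependent_iff]
    intro c hc
    have key : ∑ p : M inc hfin, (∑ i, c i * v i p) * (∑ i, c i * v i p) = 0 := by
      have : ∀ p : M inc hfin, ∑ i, c i * v i p = 0 := by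
        intro p
        have := congrFun hc p
        simpa [Finset.sum_apply] using this
      simp [this]
    have exp : ∑ p : M inc hfin, (∑ i, c i * v i p) * (∑ i, c i * v i p) =
        ∑ i, ∑ j, c i * c j * ∑ p : M inc hfin, v i p * v j p := by
      simp_rw [Finset.sum_mul_sum]
      rw [Finset.sum_comm]
      refine Finset.sum_congr rfl fun i _ => ?_
      rw [Finset.sum_comm]
      refine Finset.sum_congr rfl fun j _ => ?_
      rw [Finset.mul_sum]
      refine Finset.sum_congr rfl fun p _ => ?_
      ring
    have gram : ∀ i j, ∑ p : M inc hfin, v i p * v j p =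
        (h : ℚ) + if i = j then (((M inc hfin).filter fun p => inc p i).card : ℚ) - h else 0 := by
      intro i j
      have e : ∑ p : M inc hfin, v i p * v j p =
          (((M inc hfin).filter fun p => inc p i ∧ inc p j).card : ℚ) := by
        rw [Finset.card_filter]
        push_cast
        rw [← Finset.sum_coe_sort (M inc hfin)]
        refine Finset.sum_congr rfl fun p _ => ?_
        by_cases h1 : inc p.1 i <;> by_cases h2 : inc p.1 j <;> simp [v, h1, h2]
      rw [e]
      by_cases hij : i = j
      · subst hij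
        simp
      · rw [if_neg hij, card_filter_inter inc h hfin i j hij hcount, add_zero]
    rw [exp] at key
    have key2 : (h : ℚ) * (∑ i, c i) ^ 2 +
        ∑ i, c i ^ 2 * ((((M inc hfin).filter fun p => inc p i).card : ℚ) - h) = 0 := by
      rw [← key, sq, Finset.sum_mul_sum, Finset.mul_sum, ← Finset.sum_add_distrib]
      refine Finset.sum_congr rfl fun i _ => ?_
      simp_rw [gram, mul_add, Finset.sum_add_distrib]
      congr 1
      · rw [Finset.mul_sum]
        refine Finset.sum_congr rfl fun j _ => ?_
        ring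
      · rw [Finset.sum_eq_single i]
        · simp only [if_true]; ring
        · intro j _ hj
          rw [if_neg (Ne.symm hj), mul_zero]
        · simp
    have hpos : ∀ i, 0 < ((((M inc hfin).filter fun p => inc p i).card : ℚ) - h) := by
      intro i
      have := lt_card_curve inc h hfin hh hd hcount hnone i
      have : (h : ℚ) < (((M inc hfin).filter fun p => inc p i).card : ℚ) := by exact_mod_cast this
      linarith
    have hnn : ∀ i ∈ (univ : Finset ι), 0 ≤ c i ^ 2 * ((((M inc hfin).filter fun p => inc p i).card : ℚ) - h) :=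
      fun i _ => mul_nonneg (sq_nonneg _) (hpos i).le
    have hz : ∑ i, c i ^ 2 * ((((M inc hfin).filter fun p => inc p i).card : ℚ) - h) = 0 := by
      have h1 : 0 ≤ (h : ℚ) * (∑ i, c i) ^ 2 := by positivity
      have h2 := Finset.sum_nonneg hnn
      linarith
    intro i
    have := (Finset.sum_eq_zero_iff_of_nonneg hnn).mp hz i (mem_univ i)
    rcases mul_eq_zero.mp this with h1 | h1
    · exact pow_eq_zero_iff (two_ne_zero) |>.mp h1
    · exact absurd h1 (hpos i).ne'
  have := hli.fintype_card_le_finrank
  rw [Module.finrank_fintype_fun_eq_card] at this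
  simpa using this

end K836.Incidence
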